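import Cfsg.Prelude.Def_Spor_ON
import Cfsg.Agent.R04.ONThree
import Cfsg.Agent.TwoFusion.ClosingPrime
set_option linter.all false

-- part: ONType/Hom
section
/-!
# Homomorphisms from the presented O'Nan group
-/

set_option autoImplicit false

namespace Cfsg.Agent.ONType.Hom

open Cfsg Cfsg.Spor

/-- The relators not involving `e`: they say that `a, b, c, d, g` lie in the centraliser of `f` and
satisfy the relations of the presentation there. -/
structure RelF {G : Type*} [Group G] (a b c d f g : G) : Prop where
  aa : a * a = 1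
  bb : b * b = 1
  cc : c * c = 1
  dd : d * d = 1
  ff : f * f = 1
  ab : (a * b) ^ 3 = 1
  bc : (b * c) ^ 3 = 1
  cd : (c * d) ^ 8 = 1
  ac : a * c = c * a
  ad : a * d = d * a
  af : a * f = f * a
  bd : b * d = d * b
  bf : b * f = f * b
  cf : c * f = f * c
  df : d * f = f * d
  gg : a * f = g * g
  cd4 : a * f = (c * d) ^ 4
  cg : c * ((d * g * d * g)⁻¹ * c * (d * g * d * g)) = 1
  dg : d * ((c * g * c * g)⁻¹ * d * (c * g * c * g)) = 1
  five : (b * c * d * g) ^ 5 = 1
  gb : g * b * (c⁻¹ * g * c) * (b⁻¹ * g * b) * (c⁻¹ * g * c) = 1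

/-- All relators of the presented O'Nan group. -/
structure Rel {G : Type*} [Group G] (a b c d e f g : G) : Prop extends RelF a b c d f g where
  ee : e * e = 1
  de : (d * e) ^ 3 = 1
  ef : (e * f) ^ 3 = 1
  ae : a * e = e * a
  be : b * e = e * b
  ce : c * e = e * c
  ge : g * e * (d⁻¹ * g * d) * (e⁻¹ * g * e) * (d⁻¹ * g * d) = 1

variable {G : Type*} [Group G] {a b c d e f g : G}

/-- the generator map -/
def gmap (a b c d e f g : G) : ON.Gen → G
  | .g => g
  | .a => a
  | .b => b
  | .c => c
  | .d => d
  | .e => e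
  | .f => f

private theorem sq_of {x y : G} (hx : x * x = 1) (hy : y * y = 1) (h : x * y = y * x) :
    (x * y) ^ 2 = 1 := by
  rw [pow_two, (show x * y * (x * y) = x * (y * x) * y by group), ← h,
    (show x * (x * y) * y = (x * x) * (y * y) by group), hx, hy, one_mul]

private theorem pow_swap {x y : G} (n : ℕ) (h : (x * y) ^ n = 1) : (y * x) ^ n = 1 := by
  have : (y * x) ^ n = x⁻¹ * (x * y) ^ n * x := by
    have h1 : y * x = x⁻¹ * (x * y) * x := by group
    rw [h1]
    have := conj_pow (i := n) (a := x⁻¹) (b := x * y)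
    rw [inv_inv] at this
    exact this
  rw [this, h, mul_one, inv_mul_cancel]

theorem gmap_rel (h : Rel a b c d e f g) :
    ∀ r ∈ coxRelators ON.edges ∪ {r | r ∈ ON.extra}, FreeGroup.lift (gmap a b c d e f g) r = 1 := by
  rintro r (hr | hr)
  · obtain ⟨x, hx, y, hy, rfl⟩ := hr
    rw [map_pow, map_mul, FreeGroup.lift_apply_of, FreeGroup.lift_apply_of]
    have gx : x ≠ .g := by rintro rfl; revert hx; decide
    have gy : y ≠ .g := by rintro rfl; revert hy; decide
    clear hx hy
    have s1 : ∀ {x : G}, x * x = 1 → (x * x) ^ 1 = 1 := fun h => by rw [h, one_pow]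
    cases x <;> cases y <;> first
      | exact absurd rfl gx
      | exact absurd rfl gy
      | exact s1 h.aa
      | exact s1 h.bb
      | exact s1 h.cc
      | exact s1 h.dd
      | exact s1 h.ee
      | exact s1 h.ff
      | exact h.ab
      | exact pow_swap 3 h.ab
      | exact h.bc
      | exact pow_swap 3 h.bc
      | exact h.cd
      | exact pow_swap 8 h.cd
      | exact h.de
      | exact pow_swap 3 h.de
      | exact h.ef
      | exact pow_swap 3 h.ef
      | exact sq_of h.aa h.cc h.ac
      | exact sq_of h.cc h.aa h.ac.symm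
      | exact sq_of h.aa h.dd h.ad
      | exact sq_of h.dd h.aa h.ad.symm
      | exact sq_of h.aa h.ee h.ae
      | exact sq_of h.ee h.aa h.ae.symm
      | exact sq_of h.aa h.ff h.af
      | exact sq_of h.ff h.aa h.af.symm
      | exact sq_of h.bb h.dd h.bd
      | exact sq_of h.dd h.bb h.bd.symm
      | exact sq_of h.bb h.ee h.be
      | exact sq_of h.ee h.bb h.be.symm
      | exact sq_of h.bb h.ff h.bf
      | exact sq_of h.ff h.bb h.bf.symm
      | exact sq_of h.cc h.ee h.ce
      | exact sq_of h.ee h.cc h.ce.symm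
      | exact sq_of h.cc h.ff h.cf
      | exact sq_of h.ff h.cc h.cf.symm
      | exact sq_of h.dd h.ff h.df
      | exact sq_of h.ff h.dd h.df.symm
  · have hr' : r ∈ ON.extra := hr
    simp only [ON.extra, List.mem_cons, List.not_mem_nil, or_false] at hr'
    rcases hr' with rfl | rfl | rfl | rfl | rfl | rfl | rfl
    all_goals simp only [map_mul, map_pow, map_inv, FreeGroup.lift_apply_of, ON.a, ON.b, ON.c,
      ON.d, ON.e, ON.f, ON.g, gmap]
    · rw [h.gg, pow_two, mul_inv_cancel]
    · rw [h.cd4, mul_inv_cancel]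
    · exact h.cg
    · exact h.dg
    · exact h.five
    · exact h.gb
    · exact h.ge

/-- the homomorphism from the presented group -/
def hom (h : Rel a b c d e f g) : ON →* G := PresentedGroup.toGroup (gmap_rel h)

theorem hom_of (h : Rel a b c d e f g) (x : ON.Gen) :
    hom h (PresentedGroup.of x) = gmap a b c d e f g x := PresentedGroup.toGroup.of _

theorem range_hom (h : Rel a b c d e f g) :
    (hom h).range = Subgroup.closure {a, b, c, d, e, f, g} := by
  rw [MonoidHom.range_eq_map, ← PresentedGroup.closure_range_of, MonoidHom.map_closure]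
  apply le_antisymm
  · rw [Subgroup.closure_le]
    rintro _ ⟨_, ⟨x, rfl⟩, rfl⟩
    rw [hom_of]
    cases x <;> exact Subgroup.subset_closure (by simp [gmap])
  · rw [Subgroup.closure_le]
    intro y hy
    have key : ∀ x : ON.Gen, gmap a b c d e f g x ∈
        Subgroup.closure ((hom h) '' Set.range PresentedGroup.of) := fun x =>
      Subgroup.subset_closure ⟨_, ⟨x, rfl⟩, hom_of h x⟩
    simp only [Set.mem_insert_iff, Set.mem_singleton_iff] at hy
    rcases hy with rfl | rfl | rfl | rfl | rfl | rfl | rfl
    · exact key .a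
    · exact key .b
    · exact key .c
    · exact key .d
    · exact key .e
    · exact key .f
    · exact key .g

/-- A nontrivial group generated by elements satisfying the relations is isomorphic to the presented
O'Nan group, once the latter is simple. -/
theorem isoON_of_rel [Nontrivial G] (hs : IsSimpleGroup ON) (h : Rel a b c d e f g)
    (htop : Subgroup.closure {a, b, c, d, e, f, g} = ⊤) : IsoON G := by
  have hsurj : Function.Surjective (hom h) := by
    rw [← MonoidHom.range_eq_top, range_hom, htop]
  have hker : (hom h).ker = ⊥ := by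
    rcases hs.eq_bot_or_eq_top_of_normal (hom h).ker inferInstance with h1 | h1
    · exact h1
    · exfalso
      obtain ⟨x, hx⟩ := exists_ne (1 : G)
      obtain ⟨y, rfl⟩ := hsurj x
      apply hx
      rw [← MonoidHom.mem_ker, h1]
      exact Subgroup.mem_top _
  exact ⟨(MulEquiv.ofBijective (hom h) ⟨(MonoidHom.ker_eq_bot_iff _).mp hker, hsurj⟩).symm⟩

/-- The subgroup generated by elements satisfying the relations is isomorphic to the presented
O'Nan group, once the latter is simple and `f ≠ 1`. -/
theorem isoON_closure (hs : IsSimpleGroup ON) (h : Rel a b c d e f g) (hf : f ≠ 1) :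
    IsoON (Subgroup.closure {a, b, c, d, e, f, g}) := by
  have hker : (hom h).ker = ⊥ := by
    rcases hs.eq_bot_or_eq_top_of_normal (hom h).ker inferInstance with h1 | h1
    · exact h1
    · exfalso
      apply hf
      have := hom_of h .f
      rw [← show gmap a b c d e f g .f = f from rfl, ← this, ← MonoidHom.mem_ker, h1]
      exact Subgroup.mem_top _
  have e1 := MonoidHom.ofInjective ((MonoidHom.ker_eq_bot_iff _).mp hker)
  rw [range_hom h] at e1
  exact ⟨e1.symm⟩

end Cfsg.Agent.ONType.Hom
end

-- part: R04/EndON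
section
/-!
# End of the O'Nan type recognition

`G` finite with elements `a, …, g` satisfying all relations of the presented O'Nan group, `f ≠ 1`,
`C_G(f) ≤ ⟨a, …, g⟩` of order 161280, and `⟨a, …, g⟩` has one class of involutions. Then `G` is the
presented O'Nan group (assuming the order and the simplicity of the presented group, `S1699`).
-/

set_option autoImplicit false

namespace Cfsg.Agent.R04.EndON

open Cfsg Cfsg.Spor Cfsg.Agent.ONType.Hom

/-- Elements of order three commute with involutions in every group isomorphic to the presented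
O'Nan group. -/
theorem exists_inv_of_iso (hON : Cfsg.IsON ON) {H : Type*} [Group H] (e : H ≃* ON) (x : H)
    (hx : orderOf x = 3) : ∃ s : H, orderOf s = 2 ∧ s * x = x * s := by
  obtain ⟨s, h1, h2⟩ := Cfsg.Agent.R04.ONThree.exists_inv hON (e x) (by rw [MulEquiv.orderOf_eq, hx])
  refine ⟨e.symm s, by rw [MulEquiv.orderOf_eq, h1], ?_⟩
  apply e.injective
  rw [map_mul, map_mul, e.apply_symm_apply, h2]

/-- Closing: a subgroup isomorphic to the presented O'Nan group which contains `C_G(t)` (of order
161280) and has one class of involutions is everything. -/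
theorem eq_top (hON : Cfsg.IsON ON) {G : Type*} [Group G] [Finite G] {t : G} (ht : orderOf t = 2)
    {H : Subgroup G} (hH : Cfsg.Spor.IsoON H) (hC : Subgroup.centralizer ({t} : Set G) ≤ H)
    (hcC : Nat.card (Subgroup.centralizer ({t} : Set G)) = 161280)
    (hone : ∀ y ∈ H, orderOf y = 2 → ∃ k ∈ H, k * t * k⁻¹ = y) : H = ⊤ := by
  obtain ⟨e⟩ := hH
  have hcard : Nat.card H = 460815505920 := by
    rw [Nat.card_congr e.toEquiv]
    exact hON.2
  refine Cfsg.Agent.TwoFusion.ClosingPrime.eq_top_of_prime ht hC hone 3 Nat.prime_three ?_ ?_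
  · have h1 : Nat.card ((Subgroup.centralizer ({t} : Set G)).subgroupOf H) = 161280 := by
      rw [← hcC]
      exact Nat.card_congr (Subgroup.subgroupOfEquivOfLe hC).toEquiv
    have h2 := Subgroup.card_mul_index ((Subgroup.centralizer ({t} : Set G)).subgroupOf H)
    rw [h1, hcard] at h2
    rw [Subgroup.relIndex]
    omega
  · intro k hk hk3
    obtain ⟨s, h1, h2⟩ := exists_inv_of_iso hON e (⟨k, hk⟩ : H)
      (by rw [← hk3]; exact Subgroup.orderOf_mk k hk)
    refine ⟨s, s.2, ?_, congrArg Subtype.val h2⟩
    rw [Subgroup.orderOf_coe, h1]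

/-- All relations from the two halves and `[b, e] = 1`. -/
theorem rel_of {G : Type*} [Group G] {a b c d e f g : G} (h1 : RelF a b c d f g) (h2 : RelF f e d c a g)
    (hbe : b * e = e * b) : Rel a b c d e f g where
  toRelF := h1
  ee := h2.bb
  de := by
    have h : (e * d) ^ 3 = 1 := h2.bc
    have h' : (d * e) ^ 3 = d * (e * d) ^ 3 * d⁻¹ := by
      rw [← conj_pow]; group
    rw [h', h, mul_one, mul_inv_cancel]
  ef := by
    have h : (f * e) ^ 3 = 1 := h2.ab
    have h' : (e * f) ^ 3 = e * (f * e) ^ 3 * e⁻¹ := by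
      rw [← conj_pow]; group
    rw [h', h, mul_one, mul_inv_cancel]
  ae := h2.bf.symm
  be := hbe
  ce := h2.bd.symm
  ge := h2.gb

theorem isoON_of (hON : Cfsg.IsON ON) {G : Type*} [Group G] [Finite G] {a b c d e f g : G}
    (h1 : RelF a b c d f g) (h2 : RelF f e d c a g) (hbe : b * e = e * b) (hf : f ≠ 1)
    (hC : Subgroup.centralizer ({f} : Set G) ≤ Subgroup.closure {a, b, c, d, e, f, g})
    (hcC : Nat.card (Subgroup.centralizer ({f} : Set G)) = 161280)
    (hone : ∀ H : Subgroup G, Subgroup.centralizer ({f} : Set G) ≤ H → IsSimpleGroup H →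
      ∀ y ∈ H, orderOf y = 2 → ∃ k ∈ H, k * f * k⁻¹ = y) : Cfsg.Spor.IsoON G := by
  have hs : IsSimpleGroup ON := hON.1
  have hH : IsoON (Subgroup.closure {a, b, c, d, e, f, g}) := isoON_closure hs (rel_of h1 h2 hbe) hf
  have hf2 : orderOf f = 2 := orderOf_eq_prime (by rw [pow_two, h1.ff]) hf
  have hsH : IsSimpleGroup (Subgroup.closure {a, b, c, d, e, f, g}) := by
    obtain ⟨e⟩ := hH
    exact e.isSimpleGroup
  have htop := eq_top hON hf2 hH hC hcC (hone _ hC hsH)
  rw [htop] at hH
  obtain ⟨e⟩ := hH
  exact ⟨(Subgroup.topEquiv.symm : G ≃* (⊤ : Subgroup G)).trans e⟩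

end Cfsg.Agent.R04.EndON
end
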